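import Cfsg.Agent.Lib.Linear.OrthSevenSub.Ctx
import Cfsg.Agent.Lib.Linear.NondegFix.TypeSum

/-!
# Intertwined rational involutions in dimension eight

An element of `H` carrying a rational totally singular line fixed (or negated) by a rational
involution into a position perpendicular to a rational vector maps that line to a rational line,
then its points to rational points, and is rational up to a scalar.
-/

set_option autoImplicit false

namespace Cfsg.Lib.Linear.OrthSub7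

open Module
open scoped Matrix
open Cfsg.Lib.Linear.Orth Cfsg.Lib.Linear.Rat0 Cfsg.Lib.Linear.OrthSub

variable {ι : Type} [Fintype ι] [DecidableEq ι] {F : Type*} [Field F] {F₀ : Subfield F}
  {Q : (ι → F) → F} {B : LinearMap.BilinForm F (ι → F)} {Q₀ : (ι → F₀) → F₀}
  {B₀ : LinearMap.BilinForm F₀ (ι → F₀)} {H : Subgroup (GL ι F)}
  [Finite F] (X : Ctx7 Q B Q₀ B₀ H)

include X

/-- A singular vector of a subspace outside a smaller one. -/
theorem Ctx7.exists_sing_out (P A : Submodule F₀ (ι → F₀))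
    (h : finrank F₀ A + 3 ≤ finrank F₀ P) :
    ∃ t ∈ P, t ∉ A ∧ t ≠ 0 ∧ Q₀ t = 0 := by
  obtain ⟨A', hA'⟩ := A.exists_isCompl
  obtain ⟨t, ht, ht0, hQt⟩ := Sing.exists_singular X.space₀.smul X.space₀.polar (P ⊓ A') (by
    have h1 := Submodule.finrank_sup_add_finrank_inf_eq P A'
    have h2 := Submodule.finrank_le (P ⊔ A')
    have h4 := Submodule.finrank_add_eq_of_isCompl hA'
    omega)
  refine ⟨t, ht.1, fun hm => ht0 ?_, ht0, hQt⟩
  have : t ∈ A ⊓ A' := ⟨hm, ht.2⟩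
  rwa [hA'.inf_eq_bot, Submodule.mem_bot] at this

/-- A perpendicular pair of singular vectors in a subspace of dimension at least five. -/
theorem Ctx7.exists_gp_big (P : Submodule F₀ (ι → F₀)) (h : 5 ≤ finrank F₀ P) :
    ∃ x ∈ P, ∃ y ∈ P, GP Q₀ B₀ x y := by
  obtain ⟨e, he, he0, hQe⟩ := Sing.exists_singular X.space₀.smul X.space₀.polar P (by omega)
  have hd := finrank_perpIn (B := B₀) P (Submodule.span F₀ {e})
  rw [finrank_span_singleton he0] at hd
  obtain ⟨t, ht, hte, -, hQt⟩ := X.exists_sing_out (perpIn B₀ P (Submodule.span F₀ {e}))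
    (Submodule.span F₀ {e}) (by rw [finrank_span_singleton he0]; omega)
  refine ⟨t, ht.1, e, he, ⟨hQt, hQe, ?_, hte, he0⟩⟩
  rw [X.space₀.symm]
  exact ht.2 e (Submodule.mem_span_singleton_self e)

omit [Finite F] in
/-- A perpendicular pair in a totally singular subspace of dimension at least two. -/
theorem Ctx7.exists_gp_ts (M : Submodule F₀ (ι → F₀)) (h : 2 ≤ finrank F₀ M)
    (hM : ∀ x ∈ M, Q₀ x = 0) : ∃ x ∈ M, ∃ y ∈ M, GP Q₀ B₀ x y := by
  obtain ⟨y, hy, hy0⟩ := Submodule.exists_mem_ne_zero_of_ne_bot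
    (p := M) (fun e => by rw [e, finrank_bot] at h; omega)
  obtain ⟨x, hx, hxy⟩ : ∃ x ∈ M, x ∉ Submodule.span F₀ {y} := by
    by_contra hne
    push Not at hne
    have := Submodule.finrank_mono (show M ≤ Submodule.span F₀ {y} from hne)
    rw [finrank_span_singleton hy0] at this
    omega
  refine ⟨x, hx, y, hy, ⟨hM x hx, hM y hy, ?_, hxy, hy0⟩⟩
  have := hM _ (M.add_mem hx hy)
  rw [X.space₀.add, hM x hx, hM y hy] at this
  simpa using this

/-- The plane of a root element of `H` fixing a rational vector is rational. -/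
theorem Ctx7.plane (hA : ¬ CaseA Q B Q₀ B₀ H) {x y : ι → F} (hx : Q x = 0) (hy : Q y = 0)
    (hxy : B x y = 0) (hS : sGL Q B x y ∈ H) {w : ι → F₀} (hw0 : w ≠ 0)
    (hw : Q₀ w = 0 ∨ (2 : F) ≠ 0) (hxw : B x (rv F₀ w) = 0) (hyw : B y (rv F₀ w) = 0)
    (hx0 : x ≠ 0) (hind : y ∉ Submodule.span F {x}) :
      ∃ r₁ r₂ : ι → F₀, rv F₀ r₁ ∈ Submodule.span F {x, y} ∧ rv F₀ r₂ ∈ Submodule.span F {x, y} ∧
        ∃ c₁ c₂ d₁ d₂ : F, x = c₁ • rv F₀ r₁ + c₂ • rv F₀ r₂ ∧
          y = d₁ • rv F₀ r₁ + d₂ • rv F₀ r₂ := by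
  classical
  have C := X.space
  have hindx : x ∉ Submodule.span F {y} := fun hm => by
    obtain ⟨c, hc⟩ := Submodule.mem_span_singleton.mp hm
    have hc0 : c ≠ 0 := fun h => hx0 (by rw [← hc, h, zero_smul])
    exact hind (Submodule.mem_span_singleton.mpr
      ⟨c⁻¹, by rw [← hc, smul_smul, inv_mul_cancel₀ hc0, one_smul]⟩)
  obtain ⟨s, t, hδ⟩ : ∃ s t : ι → F₀,
      B x (rv F₀ s) * B y (rv F₀ t) - B x (rv F₀ t) * B y (rv F₀ s) ≠ 0 := by
    by_contra hne
    push Not at hne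
    have h1 : ∀ s v, B x (rv F₀ s) * B y v - B x v * B y (rv F₀ s) = 0 := fun s v => by
      have := eq_zero_of_rv (F₀ := F₀) (B x (rv F₀ s) • B y - B y (rv F₀ s) • B x)
        (fun t => by simpa [mul_comm] using hne s t) v
      simpa [mul_comm] using this
    have h2 : ∀ u v, B x u * B y v - B x v * B y u = 0 := fun u v => by
      have := eq_zero_of_rv (F₀ := F₀) (B y v • B x - B x v • B y)
        (fun s => by simpa [mul_comm] using h1 s v) u
      simpa [mul_comm] using this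
    obtain ⟨u, hu, hxu⟩ := C.exists_perp hindx
    obtain ⟨v, hv, hyv⟩ := C.exists_perp hind
    have := h2 u v
    rw [hu y (Submodule.mem_span_singleton_self y), hv x (Submodule.mem_span_singleton_self x),
      hxu, hyv] at this
    simp at this
  obtain ⟨r₁, hr₁⟩ := X.rat_of_perp hA hx hy hxy hS hw0 hw hxw hyw s
  obtain ⟨r₂, hr₂⟩ := X.rat_of_perp hA hx hy hxy hS hw0 hw hxw hyw t
  have hmem : ∀ v, nPart B x y v ∈ Submodule.span F {x, y} := fun v =>
    Submodule.sub_mem _ (Submodule.smul_mem _ _ (Submodule.subset_span (by simp)))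
      (Submodule.smul_mem _ _ (Submodule.subset_span (by simp)))
  set δ := B x (rv F₀ s) * B y (rv F₀ t) - B x (rv F₀ t) * B y (rv F₀ s) with hδd
  refine ⟨r₁, r₂, hr₁ ▸ hmem _, hr₂ ▸ hmem _, δ⁻¹ * B x (rv F₀ t), -(δ⁻¹ * B x (rv F₀ s)),
    δ⁻¹ * B y (rv F₀ t), -(δ⁻¹ * B y (rv F₀ s)), ?_, ?_⟩ <;>
  · rw [← hr₁, ← hr₂, nPart, nPart]
    match_scalars <;> field_simp <;> rw [hδd] <;> ring

omit [Finite F] in
/-- Independence survives the action of a matrix and extension of scalars. -/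
theorem Ctx7.act_indep {g : GL ι F} {p y : ι → F₀} (h : p ∉ Submodule.span F₀ {y}) :
    g.val *ᵥ rv F₀ p ∉ Submodule.span F {g.val *ᵥ rv F₀ y} := fun hm => by
  obtain ⟨s, hs⟩ := Submodule.mem_span_singleton.mp hm
  rw [← Matrix.mulVec_smul] at hs
  have hs' : s • rv F₀ y = rv F₀ p := act_injective g hs
  obtain ⟨ψ, h1, h2⟩ := exists_dot_one h
  have := congrArg (rv F₀ ψ ⬝ᵥ ·) hs'
  simp [dotProduct_smul, rv_dot, h1, h2] at this

/-- An element of `H` carrying a rational line next to a rational vector carries each of its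
points to a rational point. -/
theorem Ctx7.line_point (hA : ¬ CaseA Q B Q₀ B₀ H) {g : GL ι F} (hg : g ∈ H) {p y : ι → F₀}
    (hp : GP Q₀ B₀ p y) {w : ι → F₀} (hw0 : w ≠ 0) (hw : Q₀ w = 0 ∨ (2 : F) ≠ 0)
    (hpw : B (g.val *ᵥ rv F₀ p) (rv F₀ w) = 0) (hyw : B (g.val *ᵥ rv F₀ y) (rv F₀ w) = 0) :
    ∃ (μ : F) (p' : ι → F₀), g.val *ᵥ rv F₀ p = μ • rv F₀ p' := by
  classical
  have C := X.space
  have S := X.space₀
  have hgI := X.le_iso hg
  have conj : ∀ {a b : ι → F₀}, Q₀ a = 0 → B₀ a b = 0 →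
      sGL Q B (g.val *ᵥ rv F₀ a) (g.val *ᵥ rv F₀ b) ∈ H := fun ha hab => by
    have h := mul_mem (mul_mem hg (X.sGL_rv ha hab)) (inv_mem hg)
    rwa [sGL_conj C (X.q_rv ha) (X.b_rv hab) hgI] at h
  have hsing : ∀ {a : ι → F₀}, Q₀ a = 0 → Q (g.val *ᵥ rv F₀ a) = 0 := fun ha => by
    rw [mem_iso.mp hgI, X.q_rv ha]
  have hperp : ∀ {a b : ι → F₀}, B₀ a b = 0 → B (g.val *ᵥ rv F₀ a) (g.val *ᵥ rv F₀ b) = 0 :=
    fun h => by rw [C.B_act hgI, X.b_rv h]
  have hp0 : p ≠ 0 := fun e => hp.indep (e ▸ Submodule.zero_mem _)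
  have hgp0 : g.val *ᵥ rv F₀ p ≠ 0 := act_ne_zero fun h => hp0 (X.rv_eq_zero h)
  have hyp : y ∉ Submodule.span F₀ {p} := fun hm => by
    obtain ⟨c, hc⟩ := Submodule.mem_span_singleton.mp hm
    have hc0 : c ≠ 0 := fun h0 => hp.neY (by rw [← hc, h0, zero_smul])
    exact hp.indep (Submodule.mem_span_singleton.mpr
      ⟨c⁻¹, by rw [← hc, smul_smul, inv_mul_cancel₀ hc0, one_smul]⟩)
  obtain ⟨r₁, r₂, hr₁, hr₂, c₁, c₂, -, -, hxe, -⟩ := X.plane hA (hsing hp.singX) (hsing hp.singY)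
    (hperp hp.perp) (conj hp.singX hp.perp) hw0 hw hpw hyw hgp0 (X.act_indep hyp)
  obtain ⟨r, hr, hr0⟩ : ∃ r : ι → F₀, rv F₀ r ∈ Submodule.span F
      {g.val *ᵥ rv F₀ p, g.val *ᵥ rv F₀ y} ∧ r ≠ 0 := by
    by_cases h1 : r₁ = 0
    · exact ⟨r₂, hr₂, fun h2 => hgp0 (by rw [hxe, h1, h2, rv_zero']; simp)⟩
    · exact ⟨r₁, hr₁, h1⟩
  obtain ⟨a, b, hab⟩ := Submodule.mem_span_pair.mp hr
  have hQr : Q₀ r = 0 := Subtype.ext (by
    rw [← X.compat, ← hab, C.smul_add, hsing hp.singX, hsing hp.singY, hperp hp.perp]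
    simp)
  -- a third rational singular vector perpendicular to the line
  have hdA : finrank F₀ (Submodule.span F₀ {p, y}) ≤ 2 := finrank_span_pair_le p y
  have hd := finrank_perpIn (B := B₀) ⊤ (Submodule.span F₀ {p, y})
  obtain ⟨t, ht, htA, -, hQt⟩ := X.exists_sing_out (perpIn B₀ ⊤ (Submodule.span F₀ {p, y}))
    (Submodule.span F₀ {p, y}) (by
      have := X.card
      rw [finrank_top, finrank_fintype_fun_eq_card] at hd
      omega)
  have hpt : B₀ p t = 0 := ht.2 p (Submodule.subset_span (by simp))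
  have hyt : B₀ y t = 0 := ht.2 y (Submodule.subset_span (by simp))
  have hr' : ∀ {z : ι → F}, B z (g.val *ᵥ rv F₀ p) = 0 → B z (g.val *ᵥ rv F₀ y) = 0 →
      B z (rv F₀ r) = 0 := fun h1 h2 => by rw [← hab]; simp [h1, h2]
  refine X.rat_line hA (hsing hp.singX) (hsing hp.singY) (hsing hQt) (hperp hp.perp) (hperp hpt)
    (conj hp.singX hp.perp) (conj hp.singX hpt) hr0 (Or.inl hQr)
    (hr' (hperp (S.self_zero hp.singX)) (hperp hp.perp))
    (hr' (hperp (by rw [S.symm, hp.perp])) (hperp (S.self_zero hp.singY)))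
    (hr' (hperp (by rw [S.symm, hpt])) (hperp (by rw [S.symm, hyt])))
    hgp0 (X.act_indep hyp) fun h => ?_
  obtain ⟨s, u, hs⟩ := Submodule.mem_span_pair.mp h
  rw [← Matrix.mulVec_smul, ← Matrix.mulVec_smul, ← Matrix.mulVec_add] at hs
  have hs' : s • rv F₀ p + u • rv F₀ y = rv F₀ t := act_injective g hs
  obtain ⟨ψ, h1, h2⟩ := exists_dot_sep htA
  have := congrArg (rv F₀ ψ ⬝ᵥ ·) hs'
  simp [dotProduct_add, dotProduct_smul, rv_dot, h1, h2 p (Submodule.subset_span (by simp)),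
    h2 y (Submodule.subset_span (by simp))] at this

/-- An element of `H` mapping one rational singular point to a rational point is rational up to a
scalar. -/
theorem Ctx7.ratG_of_point (hA : ¬ CaseA Q B Q₀ B₀ H) {g : GL ι F} (hg : g ∈ H) {p p' : ι → F₀}
    {lam : F} (hQp : Q₀ p = 0) (hp0 : p ≠ 0) (hgp : g.val *ᵥ rv F₀ p = lam • rv F₀ p') :
    RatG F₀ g := by
  classical
  have C := X.space
  have hgI := X.le_iso hg
  have hlam : lam ≠ 0 := fun h => act_ne_zero (g := g) (fun h' => hp0 (X.rv_eq_zero h'))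
    (by rw [hgp, h, zero_smul])
  have hp'0 : p' ≠ 0 := fun h => act_ne_zero (g := g) (fun h' => hp0 (X.rv_eq_zero h'))
    (by rw [hgp, h, rv_zero', smul_zero])
  have hQp' : Q₀ p' = 0 := Subtype.ext (by
    have h := mem_iso.mp hgI (rv F₀ p)
    rw [hgp, C.smul, X.compat, X.compat, hQp, ZeroMemClass.coe_zero, mul_eq_zero] at h
    exact h.resolve_left (pow_ne_zero 2 hlam))
  -- the singular points perpendicular to `p`
  have spread : ∀ t, Q₀ t = 0 → B₀ p t = 0 → t ∉ Submodule.span F₀ {p} →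
      ∃ (μ : F) (t' : ι → F₀), g.val *ᵥ rv F₀ t = μ • rv F₀ t' := fun t ht hpt hind => by
    refine X.line_point hA hg (p := t) (y := p)
      ⟨ht, hQp, by rw [X.space₀.symm, hpt], hind, hp0⟩ hp'0 (Or.inl hQp') ?_ ?_
    · have h : B (g.val *ᵥ rv F₀ t) (g.val *ᵥ rv F₀ p) = 0 := by
        rw [C.B_act hgI, C.symm, X.b_rv hpt]
      rw [hgp, map_smul, smul_eq_zero] at h
      exact h.resolve_left hlam
    · rw [hgp, map_smul, LinearMap.smul_apply, C.self_zero (X.q_rv hQp'), smul_zero]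
  obtain ⟨e, f, hHp, hep, hfp⟩ := X.exists_hyp_list {p} (by simp)
  rw [Finset.coe_singleton] at hep hfp
  have hpe : B₀ p e = 0 := hHp.memE.2 p (Submodule.subset_span (by simp))
  have hpf : B₀ p f = 0 := hHp.memF.2 p (Submodule.subset_span (by simp))
  have hH : Hyp Q₀ B₀ ⊤ e f := ⟨trivial, trivial, hHp.singE, hHp.singF, hHp.pair⟩
  have he0 : e ≠ 0 := fun h => by simpa [h] using hH.pair
  have hf0 : f ≠ 0 := fun h => by simpa [h] using hH.pair
  obtain ⟨μ, e', he'⟩ := spread e hH.singE hpe hep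
  obtain ⟨ν, f', hf'⟩ := spread f hH.singF hpf hfp
  have hμ : μ ≠ 0 := fun h => act_ne_zero (g := g) (fun h' => he0 (X.rv_eq_zero h'))
    (by rw [he', h, zero_smul])
  have hν : ν ≠ 0 := fun h => act_ne_zero (g := g) (fun h' => hf0 (X.rv_eq_zero h'))
    (by rw [hf', h, zero_smul])
  have hpair : μ * ν * (B₀ e' f' : F) = 1 := by
    have h := C.B_act hgI (rv F₀ e) (rv F₀ f)
    rw [he', hf', map_smul, map_smul, LinearMap.smul_apply, X.B_rv, X.B_rv, hH.pair] at h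
    simp only [smul_eq_mul, OneMemClass.coe_one] at h
    linear_combination h
  have hk : μ * ν ∈ F₀ := by
    rw [eq_inv_of_mul_eq_one_left hpair]; exact F₀.inv_mem (SetLike.coe_mem _)
  have hB' : (B₀ e' f' : F) ≠ 0 := fun h => by rw [h, mul_zero] at hpair; exact zero_ne_one hpair
  -- the two centres
  have two : ∀ {c c' d d' : ι → F₀} {μ ν : F}, Q₀ c = 0 → c ≠ 0 → μ ≠ 0 → ν ≠ 0 →
      g.val *ᵥ rv F₀ c = μ • rv F₀ c' → g.val *ᵥ rv F₀ d = ν • rv F₀ d' →
      (B₀ d' c' : F) ≠ 0 → ∀ t, B₀ c t = 0 → B₀ d t = 0 →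
      Ratv F₀ (μ • g.val *ᵥ rv F₀ t) := by
    intro c c' d d' μ ν hc hc0 hμ hν hgc hgd hne t hct hdt
    have hgt : B (μ • rv F₀ c') (g.val *ᵥ rv F₀ t) = 0 := by
      rw [← hgc, C.B_act hgI, X.b_rv hct]
    have hQc' : Q₀ c' = 0 := Subtype.ext (by
      have h := mem_iso.mp hgI (rv F₀ c)
      rw [hgc, C.smul, X.compat, X.compat, hc, ZeroMemClass.coe_zero, mul_eq_zero] at h
      exact h.resolve_left (pow_ne_zero 2 hμ))
    have hgt' : B (rv F₀ c') (μ • g.val *ᵥ rv F₀ t) = 0 := by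
      rwa [map_smul, LinearMap.smul_apply, ← map_smul] at hgt
    have h := mul_mem (mul_mem hg (X.sGL_rv hc hct)) (inv_mem hg)
    rw [sGL_conj C (X.q_rv hc) (X.b_rv hct) hgI, hgc, sGL_smul C (X.q_rv hQc') (by
      rw [← hgt', map_smul]
      rw [map_smul, smul_eq_zero] at hgt'
      rw [hgt'.resolve_left hμ, smul_zero])] at h
    obtain ⟨k, r, hr⟩ := X.lambda hA hQc' (fun h0 => by simp [h0] at hne) hgt' h
    have h1 := congrArg (B (rv F₀ d')) hr
    have h2 : B (ν • rv F₀ d') (g.val *ᵥ rv F₀ t) = 0 := by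
      rw [← hgd, C.B_act hgI, X.b_rv hdt]
    rw [map_smul, LinearMap.smul_apply, smul_eq_zero] at h2
    rw [map_smul, h2.resolve_left hν, smul_zero, map_add, map_smul, X.B_rv, X.B_rv,
      smul_eq_mul] at h1
    have hk' : k = -(B₀ d' r : F) / (B₀ d' c' : F) := by
      field_simp
      linear_combination -h1
    rw [hr]
    refine (ratv_rv r).add ((ratv_rv c').smul ?_)
    rw [hk']
    exact F₀.div_mem (F₀.neg_mem (SetLike.coe_mem _)) (SetLike.coe_mem _)
  have he2 : (B₀ f' e' : F) ≠ 0 := by rwa [X.space₀.symm]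
  have k1 := two hH.singE he0 hμ hν he' hf' he2
  have k2 := two hH.singF hf0 hν hμ hf' he' hB'
  have hμ2 : μ * μ ∈ F₀ := by
    obtain ⟨t0, t0', hT0, -⟩ := X.exists_hyp_list {e, f} (Finset.card_le_two.trans (by norm_num))
    have ht0 : t0 ≠ 0 := fun h => by simpa [h] using hT0.pair
    have h1 := hT0.memE.2 e (Submodule.subset_span (by simp))
    have h2 := hT0.memE.2 f (Submodule.subset_span (by simp))
    obtain ⟨r1, hr1⟩ := k1 t0 h1 h2
    obtain ⟨r2, hr2⟩ := k2 t0 h2 h1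
    obtain ⟨i, hi⟩ := Function.ne_iff.mp (act_ne_zero (g := g) fun h => ht0 (X.rv_eq_zero h))
    have a1 := congrFun hr1 i
    have a2 := congrFun hr2 i
    simp only [Pi.smul_apply, smul_eq_mul, rv] at a1 a2
    have hr2i : (r2 i : F) ≠ 0 := by rw [← a2]; exact mul_ne_zero hν hi
    have : μ * μ = μ * ν * ((r1 i : F) / (r2 i : F)) := by
      rw [← a1, ← a2, mul_div_mul_right _ _ (by simpa using hi)]; field_simp
    rw [this]
    exact F₀.mul_mem hk (F₀.div_mem (SetLike.coe_mem _) (SetLike.coe_mem _))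
  refine ⟨μ, hμ, fun i j => ?_⟩
  have hall : ∀ z, Ratv F₀ (μ • g.val *ᵥ rv F₀ z) := fun z => by
    set t := z - B₀ f z • e - B₀ e z • f
    have htd : z = t + (B₀ f z • e + B₀ e z • f) := by simp only [t]; abel
    have ht := hH
    have h1 : B₀ e t = 0 := by
      simp only [t, map_sub, map_smul, X.space₀.self_zero hH.singE, hH.pair, smul_eq_mul,
        mul_zero, mul_one, sub_zero, sub_self]
    have h2 : B₀ f t = 0 := by
      simp only [t, map_sub, map_smul, X.space₀.self_zero hH.singF, hH.pair' X.space₀, smul_eq_mul,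
        mul_zero, mul_one, sub_zero, sub_self]
    rw [htd, rv_add, rv_add, rv_smul, rv_smul, Matrix.mulVec_add, Matrix.mulVec_add,
      Matrix.mulVec_smul, Matrix.mulVec_smul, he', hf', smul_add, smul_add]
    refine (k1 t h1 h2).add (Ratv.add ?_ ?_)
    · rw [smul_smul, smul_smul, show μ * (B₀ f z : F) * μ = μ * μ * (B₀ f z : F) by ring]
      exact (ratv_rv e').smul (F₀.mul_mem hμ2 (SetLike.coe_mem _))
    · rw [smul_smul, smul_smul, show μ * (B₀ e z : F) * ν = μ * ν * (B₀ e z : F) by ring]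
      exact (ratv_rv f').smul (F₀.mul_mem hk (SetLike.coe_mem _))
  obtain ⟨r, hr⟩ := hall (Pi.single j 1)
  have := congrFun hr i
  rw [rv_single_mem, Pi.smul_apply, Matrix.mulVec_single_one, smul_eq_mul] at this
  exact this ▸ (r i).2


omit [Finite F] X in
theorem rv_sub' (x y : ι → F₀) : rv F₀ (x - y) = rv F₀ x - rv F₀ y :=
  funext fun i => by simp [rv]

omit [Finite F] in
/-- Eigenvectors of an isometry with opposite signs are perpendicular. -/
theorem Ctx7.perp_eigen (h2 : (2 : F) ≠ 0) {b : GL ι F} (hb : b ∈ isometryGroup F Q) {p q : ι → F}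
    {ε : F} (hε : ε * ε = 1) (hp : b.val *ᵥ p = ε • p) (hq : b.val *ᵥ q = -ε • q) :
    B p q = 0 := by
  have h := X.space.B_act hb p q
  rw [hp, hq] at h
  simp only [map_smul, LinearMap.smul_apply, smul_eq_mul, ← mul_assoc, mul_neg, neg_mul, hε,
    one_mul] at h
  refine (mul_eq_zero.mp (?_ : (2 : F) * B p q = 0)).resolve_left h2
  linear_combination -h

/-- The eigenspaces of a rational involution in odd characteristic. -/
theorem Ctx7.invol_split (h2 : (2 : F) ≠ 0) {a : GL ι F} (haI : a ∈ isometryGroup F Q) {d : ℕ}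
    (hinv : RatInvol F₀ a d) :
    ∃ U A : Submodule F₀ (ι → F₀), Split Q₀ B₀ U A ∧ finrank F₀ A ≤ d ∧ A ≠ ⊥ ∧
      (∀ z ∈ U, a.val *ᵥ rv F₀ z = (1 : F) • rv F₀ z) ∧
      ∀ z ∈ A, a.val *ᵥ rv F₀ z = (-1 : F) • rv F₀ z := by
  classical
  have C := X.space
  obtain ⟨hE, ha2, ha1, hK⟩ := hinv
  obtain ⟨T, hT⟩ := exists_moved_map hE
  have hAd := finrank_moved_le hE hT hK
  have h20 : (2 : F₀) ≠ 0 := fun h => h2 (congrArg Subtype.val h)
  have hainv : ∀ v, a.val *ᵥ (a.val *ᵥ v) = v := fun v => by rw [← mul_act, ha2]; simp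
  set A := LinearMap.range T with hAdef
  set U := LinearMap.ker T with hUdef
  have hU : ∀ z ∈ U, a.val *ᵥ rv F₀ z = rv F₀ z := fun z hz =>
    sub_eq_zero.mp (by rw [← hT, LinearMap.mem_ker.mp hz, rv_zero'])
  have hTT : ∀ t, T (T t) = (-2 : F₀) • T t := fun t => rv_injective F₀ (by
    rw [rv_smul, hT (T t), hT, Matrix.mulVec_sub, hainv]
    push_cast
    rw [show ((2 : F₀) : F) = 2 from rfl]
    module)
  have hneg : ∀ z ∈ A, a.val *ᵥ rv F₀ z = -rv F₀ z := by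
    rintro _ ⟨t, rfl⟩
    have h := congrArg (rv F₀) (hTT t)
    rw [hT (T t), rv_smul] at h
    push_cast at h
    rw [show ((2 : F₀) : F) = 2 from rfl] at h
    linear_combination (norm := module) h
  have hsup : U ⊔ A = ⊤ := eq_top_iff.mpr fun t _ => by
    rw [show t = (t + (2 : F₀)⁻¹ • T t) + -((2 : F₀)⁻¹ • T t) by abel]
    refine Submodule.add_mem_sup (LinearMap.mem_ker.mpr ?_) (A.neg_mem (A.smul_mem _ ⟨t, rfl⟩))
    rw [map_add, map_smul, hTT, smul_smul, mul_neg, inv_mul_cancel₀ h20]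
    simp
  have orth : ∀ u ∈ U, ∀ w ∈ A, B₀ u w = 0 := fun u hu w hw => Subtype.ext (by
    rw [← X.B_rv, X.perp_eigen h2 haI (ε := 1) (mul_one 1) (by rw [hU u hu, one_smul])
      (by rw [hneg w hw, neg_one_smul])]
    rfl)
  have S : Split Q₀ B₀ U A := by
    refine ⟨fun x hx hxy => X.space₀.nondeg' fun u => ?_,
      fun x hx hxy => X.space₀.nondeg' fun u => ?_, orth, hsup⟩
    all_goals
      obtain ⟨p, hp, q, hq, rfl⟩ := Submodule.mem_sup.mp (hsup ▸ Submodule.mem_top : u ∈ U ⊔ A)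
      rw [map_add]
    · rw [hxy p hp, orth x hx q hq, add_zero]
    · rw [hxy q hq, X.space₀.symm x p, orth p hp x hx, add_zero]
  refine ⟨U, A, S, hAd, fun h => ha1 (gl_ext fun v => ?_), fun z hz => ?_, fun z hz => ?_⟩
  · have := eq_zero_of_rv (F₀ := F₀) (Matrix.toLin' a.val - LinearMap.id) (fun e => by
      have he : T e = 0 := (Submodule.mem_bot F₀).mp (h ▸ ⟨e, rfl⟩)
      rw [LinearMap.sub_apply, LinearMap.id_apply, Matrix.toLin'_apply, ← hT, he, rv_zero']) v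
    rw [LinearMap.sub_apply, LinearMap.id_apply, Matrix.toLin'_apply, sub_eq_zero] at this
    simpa using this
  · rw [hU z hz, one_smul]
  · rw [hneg z hz, neg_one_smul]

/-- A rational singular vector `x` with a non-singular partner in an eigenspace goes, under an
intertwining element, to a rational point when the opposite eigenspace has a singular vector. -/
theorem Ctx7.ratG_of_sides (hA : ¬ CaseA Q B Q₀ B₀ H) (h2 : (2 : F) ≠ 0) {g a b : GL ι F}
    (hg : g ∈ H) (hb : b ∈ isometryGroup F Q) (hgab : g * a = b * g)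
    {ε : F} (hε : ε * ε = 1) {P R S : Submodule F₀ (ι → F₀)} (hPn : NDeg B₀ P)
    (hP : ∀ z ∈ P, a.val *ᵥ rv F₀ z = ε • rv F₀ z)
    (hS : ∀ z ∈ S, b.val *ᵥ rv F₀ z = ε • rv F₀ z)
    (hR : ∀ z ∈ R, b.val *ᵥ rv F₀ z = -ε • rv F₀ z)
    (hSR : S ⊔ R = ⊤) (hP3 : 3 ≤ finrank F₀ P) (hR3 : 3 ≤ finrank F₀ R) : RatG F₀ g := by
  classical
  have C := X.space
  have C₀ := X.space₀
  have hgI := X.le_iso hg
  obtain ⟨x, hx, hx0, hQx⟩ := Sing.exists_singular C₀.smul C₀.polar P hP3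
  obtain ⟨f, hf⟩ := exists_hyp C₀ hPn hx hx0 hQx
  obtain ⟨c, hc, hQc⟩ := exists_nonsing C₀ (hf.ndeg C₀ hPn) (fun h => by
    have := hf.le_finrank C₀
    rw [h, finrank_bot] at this
    omega)
  obtain ⟨hcP, hxc, -⟩ := mem_perp2.mp hc
  obtain ⟨v, hv, hv0, hQv⟩ := Sing.exists_singular C₀.smul C₀.polar R hR3
  set G := g.val *ᵥ rv F₀ x with hG
  set K := g.val *ᵥ rv F₀ c with hK
  set W := rv F₀ v with hW
  have himg : ∀ z ∈ P, b.val *ᵥ (g.val *ᵥ rv F₀ z) = ε • g.val *ᵥ rv F₀ z := fun z hz => by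
    rw [← mul_act, ← hgab, mul_act, hP z hz, Matrix.mulVec_smul]
  have hGv : B G W = 0 := X.perp_eigen h2 hb hε (himg x hx) (hR v hv)
  have hKv : B K W = 0 := X.perp_eigen h2 hb hε (himg c hcP) (hR v hv)
  have hGK : B G K = 0 := by rw [hG, hK, C.B_act hgI, X.b_rv hxc]
  have hQG : Q G = 0 := by rw [hG, mem_iso.mp hgI, X.q_rv hQx]
  have hQW : Q W = 0 := X.q_rv hQv
  have hQK : Q K ≠ 0 := by
    rw [hK, mem_iso.mp hgI, X.compat]
    exact fun h => hQc (Subtype.ext h)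
  set h := sGL Q B G K with hh
  have hhH : h ∈ H := by
    have h1 := mul_mem (mul_mem hg (X.sGL_rv hQx hxc)) (inv_mem hg)
    rwa [sGL_conj C (X.q_rv hQx) (X.b_rv hxc) hgI] at h1
  have hfix : h.val *ᵥ W = W := by
    rw [hh, sGL_act C hQG hGK, hGv, hKv]; simp
  have lam : ∀ z, B₀ v z = 0 → ∃ (k : F) (r : ι → F₀),
      h.val *ᵥ rv F₀ z = rv F₀ r + k • W ∧ B₀ v r = 0 := by
    intro z hz
    have h1 := mul_mem (mul_mem hhH (X.sGL_rv hQv hz)) (inv_mem hhH)
    rw [sGL_conj C hQW (X.b_rv hz) (X.le_iso hhH), hfix] at h1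
    have h3 : B W (h.val *ᵥ rv F₀ z) = 0 := by
      conv_lhs => rw [← hfix]
      rw [C.B_act (X.le_iso hhH), hW, X.b_rv hz]
    obtain ⟨k, r, hr⟩ := X.lambda hA hQv hv0 h3 h1
    refine ⟨k, r, hr, ?_⟩
    rw [hr, map_add, map_smul, C.self_zero hQW, smul_zero, add_zero, hW, X.B_rv] at h3
    exact Subtype.ext h3
  by_cases hz : ∃ z, B₀ v z = 0 ∧ B G (rv F₀ z) ≠ 0
  swap
  · push Not at hz
    obtain ⟨e, he⟩ := exists_hyp C₀ C₀.ndeg_top (e := v) trivial hv0 hQv
    have hGe : G = B G (rv F₀ e) • W := sub_eq_zero.mp (C.nondeg' fun u => by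
      refine eq_zero_of_rv (F₀ := F₀) _ (fun t => ?_) u
      have h1 := hz (t - B₀ v t • e) (by rw [map_sub, map_smul, he.pair, smul_eq_mul, mul_one,
        sub_self])
      rw [rv_sub', rv_smul, map_sub, map_smul, smul_eq_mul] at h1
      rw [map_sub, LinearMap.sub_apply, map_smul, LinearMap.smul_apply, hW, X.B_rv, smul_eq_mul]
      linear_combination h1)
    exact X.ratG_of_point hA hg hQx hx0 (hG ▸ hGe)
  obtain ⟨z, hz, hGz⟩ := hz
  obtain ⟨k1, r1, hr1, hvr⟩ := lam z hz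
  obtain ⟨k2, r2, hr2, -⟩ := lam r1 hvr
  have hdd : (-(2 * Q K * B G (rv F₀ z))) • G =
      rv F₀ (r2 - r1 - r1 + z) + (k2 - k1) • W := by
    have e2 : h.val *ᵥ (h.val *ᵥ rv F₀ z) = rv F₀ r2 + (k2 + k1) • W := by
      rw [hr1, Matrix.mulVec_add, Matrix.mulVec_smul, hfix, hr2]; module
    have e3 : h.val *ᵥ (h.val *ᵥ rv F₀ z) - h.val *ᵥ rv F₀ z - h.val *ᵥ rv F₀ z + rv F₀ z =
        (-(2 * Q K * B G (rv F₀ z))) • G := by
      simp only [hh, sGL_act C hQG hGK, map_add, map_sub, map_smul, smul_eq_mul,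
        C.self_zero hQG, hGK, C.symm K G, C.self]
      module
    rw [← e3, e2, hr1, rv_add, rv_sub', rv_sub']
    module
  set κ := -(2 * Q K * B G (rv F₀ z)) with hκ
  have hκ0 : κ ≠ 0 := neg_ne_zero.mpr (mul_ne_zero (mul_ne_zero h2 hQK) hGz)
  obtain ⟨p, hp, q, hq, hpq⟩ := Submodule.mem_sup.mp
    (hSR ▸ Submodule.mem_top : r2 - r1 - r1 + z ∈ S ⊔ R)
  have hX : κ • G - rv F₀ p = rv F₀ q + (k2 - k1) • W := by
    rw [hdd, ← hpq, rv_add]; abel
  have h1 : b.val *ᵥ (κ • G - rv F₀ p) = ε • (κ • G - rv F₀ p) := by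
    rw [Matrix.mulVec_sub, Matrix.mulVec_smul, hG, himg x hx, hS p hp]; module
  have h3 : b.val *ᵥ (κ • G - rv F₀ p) = -ε • (κ • G - rv F₀ p) := by
    rw [hX, Matrix.mulVec_add, Matrix.mulVec_smul, hW, hR q hq, hR v hv]; module
  have h4 : κ • G = rv F₀ p := by
    refine sub_eq_zero.mp ?_
    have h5 : (2 * ε) • (κ • G - rv F₀ p) = 0 := by
      linear_combination (norm := module) h3 - h1
    exact (smul_eq_zero.mp h5).resolve_left
      (mul_ne_zero h2 fun h => by rw [h, mul_zero] at hε; exact zero_ne_one hε)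
  exact X.ratG_of_point hA hg hQx hx0 (lam := κ⁻¹) (p' := p)
    (by rw [← h4, smul_smul, inv_mul_cancel₀ hκ0, one_smul])

/-- An element of `H` intertwining two rational involutions is rational up to a scalar. -/
theorem Ctx7.ratG_of_intertwine (hA : ¬ CaseA Q B Q₀ B₀ H) (h2 : (2 : F) ≠ 0) {g a b : GL ι F}
    (hg : g ∈ H) (ha : a ∈ isometryGroup F Q) (hb : b ∈ isometryGroup F Q) {d : ℕ}
    (hia : RatInvol F₀ a d) (hib : RatInvol F₀ b d) (hgab : g * a = b * g) (hd : d < 7) :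
    RatG F₀ g := by
  classical
  have C := X.space
  have hc := X.card
  obtain ⟨U, A, S, -, -, hU, hA'⟩ := X.invol_split h2 ha hia
  obtain ⟨U', A', S', hd', hA0, hU', hA''⟩ := X.invol_split h2 hb hib
  have hs := S.finrank_add X.space₀
  have hs' := S'.finrank_add X.space₀
  have line : ∀ {P R : Submodule F₀ (ι → F₀)} {ε : F}, ε * ε = 1 →
      (∀ z ∈ P, a.val *ᵥ rv F₀ z = ε • rv F₀ z) → (∀ z ∈ R, b.val *ᵥ rv F₀ z = -ε • rv F₀ z) →
      5 ≤ finrank F₀ P → R ≠ ⊥ → RatG F₀ g := by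
    intro P R ε hε hP hR h5 hR0
    obtain ⟨x, hx, y, hy, hxy⟩ := X.exists_gp_big P h5
    obtain ⟨w, hw, hw0⟩ := Submodule.exists_mem_ne_zero_of_ne_bot hR0
    have key : ∀ z ∈ P, B (g.val *ᵥ rv F₀ z) (rv F₀ w) = 0 := fun z hz =>
      X.perp_eigen h2 hb hε (by rw [← mul_act, ← hgab, mul_act, hP z hz, Matrix.mulVec_smul])
        (hR w hw)
    obtain ⟨μ, x', hx'⟩ := X.line_point hA hg hxy hw0 (Or.inr h2) (key x hx) (key y hy)
    exact X.ratG_of_point hA hg hxy.singX (fun e => hxy.indep (e ▸ Submodule.zero_mem _)) hx'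
  have hone : (1 : F) * 1 = 1 := mul_one 1
  have hneg : (-1 : F) * -1 = 1 := by ring
  have hR1 : ∀ z ∈ U', b.val *ᵥ rv F₀ z = -(-1 : F) • rv F₀ z := fun z hz => by
    rw [neg_neg]; exact hU' z hz
  by_cases hU5 : 5 ≤ finrank F₀ U
  · exact line hone hU hA'' hU5 hA0
  by_cases hA5 : 5 ≤ finrank F₀ A
  · refine line hneg hA' hR1 hA5 fun h => ?_
    rw [h, finrank_bot] at hs'
    omega
  by_cases hA3 : 3 ≤ finrank F₀ A'
  · exact X.ratG_of_sides hA h2 hg hb hgab hone S.ndU hU hU' hA'' S'.sup (by omega) hA3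
  · exact X.ratG_of_sides hA h2 hg hb hgab hneg S.ndW hA' hA'' hR1 (by rw [sup_comm, S'.sup])
      (by omega) (by omega)

end Cfsg.Lib.Linear.OrthSub7
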