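import Cfsg.Agent.Lib.Linear.OrthSevenSub.Fix
import Cfsg.Agent.Lib.Linear.OrthSubfieldMax
import Cfsg.Agent.Lib.Linear.ClassSp.WitnessOmega

/-!
# Subfield groups in seven-dimensional orthogonal groups
-/

set_option autoImplicit false

namespace Cfsg.Lib.Linear.OrthSub7

open Module
open scoped Matrix commutatorElement
open Cfsg.Lib.Linear.Orth Cfsg.Lib.Linear.Rat0 Cfsg.Lib.Linear.OrthSub

variable {ι : Type} [Fintype ι] [DecidableEq ι] {F : Type*} [Field F] {F₀ : Subfield F}
  {Q : (ι → F) → F} {B : LinearMap.BilinForm F (ι → F)}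
  [Finite F] {Q₀ : (ι → F₀) → F₀} {B₀ : LinearMap.BilinForm F₀ (ι → F₀)}
  {H : Subgroup (GL ι F)} (X : Ctx7 Q B Q₀ B₀ H)

include X

/-- Three perpendicular hyperbolic pairs of rational vectors. -/
theorem Ctx7.exists_three : ∃ e f : Fin 3 → (ι → F₀), (∀ i, Q₀ (e i) = 0 ∧ Q₀ (f i) = 0) ∧
    ∀ i j, B₀ (e i) (e j) = 0 ∧ B₀ (f i) (f j) = 0 ∧ B₀ (e i) (f j) = if i = j then 1 else 0 := by
  have S := X.space₀
  have hn : 7 ≤ finrank F₀ (⊤ : Submodule F₀ (ι → F₀)) := by
    rw [finrank_top, finrank_fintype_fun_eq_card]; exact X.card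
  obtain ⟨e1, f1, h1⟩ := exists_hyp' S S.ndeg_top (by omega)
  have d1 := h1.le_finrank S
  obtain ⟨e2, f2, h2⟩ := exists_hyp' S (h1.ndeg S S.ndeg_top) (by omega)
  have d2 := h2.le_finrank S
  obtain ⟨e3, f3, h3⟩ := exists_hyp' S (h2.ndeg S (h1.ndeg S S.ndeg_top)) (by omega)
  obtain ⟨-, a1, a2⟩ := mem_perp2.mp h2.memE
  obtain ⟨-, a3, a4⟩ := mem_perp2.mp h2.memF
  obtain ⟨m3e, b1, b2⟩ := mem_perp2.mp h3.memE
  obtain ⟨m3f, b3, b4⟩ := mem_perp2.mp h3.memF
  obtain ⟨-, b5, b6⟩ := mem_perp2.mp m3e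
  obtain ⟨-, b7, b8⟩ := mem_perp2.mp m3f
  refine ⟨![e1, e2, e3], ![f1, f2, f3], fun i => ?_, fun i j => ?_⟩
  · fin_cases i <;> simp [h1.singE, h1.singF, h2.singE, h2.singF, h3.singE, h3.singF]
  · fin_cases i <;> fin_cases j <;>
      simp [S.self_zero, h1.singE, h1.singF, h2.singE, h2.singF, h3.singE, h3.singF,
        h1.pair, h2.pair, h3.pair, a1, a2, a3, a4, b1, b2, b3, b4, b5, b6, b7,
        b8, S.symm e2 e1, S.symm e3 e1, S.symm e3 e2, S.symm f2 f1, S.symm f3 f1,
        S.symm f3 f2, S.symm e2 f1, S.symm e3 f1, S.symm e3 f2]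

/-- Either every element of `H` is rational up to a scalar, or `H` is everything. -/
theorem Ctx7.ratG_or_top (h2 : (2 : F) ≠ 0) (h7 : Odd (Fintype.card ι))
    {r : ℕ} (hr : r.Prime) (hcard : Nat.card F = Nat.card F₀ ^ r) :
    (∀ h ∈ H, RatG F₀ h) ∨ Cfsg.Geo.omegaGL Q ≤ H := by
  classical
  by_cases hA : CaseA Q B Q₀ B₀ H
  · exact Or.inr (X.omega_le_of_caseA hr hcard hA)
  left
  have C := X.space
  have hn := X.card
  obtain ⟨e, f, hs, hp⟩ := X.exists_three
  set a : Fin 3 → (ι → F) := fun i => rv F₀ (e i + f i) with ha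
  have hQa : ∀ i, Q (a i) = 1 := fun i => by
    rw [ha]
    show Q (rv F₀ (e i + f i)) = 1
    rw [X.compat, X.space₀.add, (hs i).1, (hs i).2, (hp i i).2.2, if_pos rfl]
    simp
  have hBa : ∀ i j, i ≠ j → B (a i) (a j) = 0 := fun i j hij => by
    show B (rv F₀ (e i + f i)) (rv F₀ (e j + f j)) = 0
    rw [X.B_rv]
    simp [(hp i j).1, (hp i j).2.1, (hp i j).2.2, X.space₀.symm (f i) (e j), (hp j i).2.2, hij,
      Ne.symm hij]
  have hae : ∀ i j, B (a i) (rv F₀ (e j)) = if j = i then 1 else 0 := fun i j => by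
    show B (rv F₀ (e i + f i)) (rv F₀ (e j)) = _
    rw [X.B_rv]
    split_ifs with h
    · subst h; simp [(hp j j).1, X.space₀.symm (f j) (e j), (hp j j).2.2]
    · simp [(hp i j).1, X.space₀.symm (f i) (e j), (hp j i).2.2, h]
  have hQ0 : ∀ i, Q (a i) ≠ 0 := fun i => by rw [hQa]; exact one_ne_zero
  -- a product of two of the reflections
  have pair : ∀ i j, i ≠ j → rGL Q (a i) * rGL Q (a j) ∈ H ∧
      (∀ z : ι → F₀, Ratv F₀ ((rGL Q (a i) * rGL Q (a j)).val *ᵥ rv F₀ z)) := fun i j hij => by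
    have hr' : ∀ z : ι → F₀, Ratv F₀ ((rGL Q (a i) * rGL Q (a j)).val *ᵥ rv F₀ z) := fun z => by
      rw [rGL_pair_act C (hQa i) (hQa j) (hBa i j hij)]
      refine ((ratv_rv z).sub ((ratv_rv (e i + f i)).smul ?_)).sub
        ((ratv_rv (e j + f j)).smul ?_) <;>
      · show B (rv F₀ _) (rv F₀ z) ∈ F₀
        rw [X.B_rv]
        exact SetLike.coe_mem _
    refine ⟨X.rat _ ?_ ⟨1, one_ne_zero, fun p q => by rw [one_mul]; exact entries_of_ratv hr' p q⟩,
      hr'⟩
    rw [omegaGL_comm]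
    exact rGL_mul_rGL_mem C X.five (hQ0 i) (by rw [hQa, hQa])
  set j := rGL Q (a 0) * rGL Q (a 1) with hj
  have hjact : ∀ x, j.val *ᵥ x = x - B (a 0) x • a 0 - B (a 1) x • a 1 :=
    rGL_pair_act C (hQa 0) (hQa 1) (hBa 0 1 (by decide))
  have hjj : j * j = 1 := gl_ext fun x => by
    rw [mul_act, hjact x, hjact, Units.val_one, Matrix.one_mulVec]
    simp only [map_sub, map_smul, C.self, hQa, hBa 0 1 (by decide), hBa 1 0 (by decide),
      smul_eq_mul, mul_one, mul_zero]
    module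
  have he1 : j.val *ᵥ rv F₀ (e 0) = -rv F₀ (f 0) := by
    rw [hjact, hae, hae, if_pos rfl, if_neg (by decide), ha]
    simp [rv_add]
  have hje : B (j.val *ᵥ rv F₀ (e 0)) (rv F₀ (e 0)) = -1 := by
    rw [he1, map_neg, LinearMap.neg_apply, X.B_rv, X.space₀.symm, (hp 0 0).2.2]
    simp
  have hjinv : RatInvol F₀ j 2 := by
    refine ⟨entries_of_ratv (pair 0 1 (by decide)).2, hjj, fun h => ?_, ?_⟩
    · rw [h, Units.val_one, Matrix.one_mulVec, X.B_rv, X.space₀.self_zero (hs 0).1] at hje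
      simp at hje
    · refine (finrank_ker_prod_ge (B := B) (a 0) (a 1)).trans (Nat.add_le_add_right
        (Submodule.finrank_mono fun x hx => ?_) 2)
      obtain ⟨-, h0, h1⟩ := mem_perp2.mp hx
      rw [mem_fixedSp, hjact, h0, h1]
      simp
  intro h hh
  have h20 : (2 : F₀) ≠ 0 := fun h => h2 (congrArg Subtype.val h)
  obtain ⟨c₃, hc₃⟩ : ∃ c₃ : ι → F₀, Q₀ c₃ = 1 ∧ ∀ i, B₀ (e i + f i) c₃ = 0 := by
    set A := Submodule.span F₀ (Set.range fun i => e i + f i)
    have hdA : finrank F₀ A ≤ 3 := by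
      have := finrank_range_le_card (R := F₀) fun i => e i + f i
      simpa [Set.finrank] using this
    set E := perpIn B₀ ⊤ A with hE
    have hdE : 4 ≤ finrank F₀ E := by
      have := finrank_perpIn (B := B₀) ⊤ A
      rw [finrank_top, finrank_fintype_fun_eq_card, ← hE] at this
      omega
    obtain ⟨v, hv, hQv⟩ := ClassSp.exists_value_in X.space₀ h20 E (fun K hKE hK => by
      -- a vector of the radical is perpendicular to everything
      refine Nat.le_trans (le_of_eq (?_ : finrank F₀ K + 2 = 2)) (by omega)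
      have hK0 : K = ⊥ := eq_bot_iff.mpr fun x hx => (Submodule.mem_bot F₀).mpr
        (X.space₀.nondeg' fun t => by
          let u : Fin 3 → (ι → F₀) := fun i => e i + f i
          have hu : ∀ i j, B₀ (u i) (u j) = if i = j then 2 else 0 := fun i j => by
            simp only [u, map_add, LinearMap.add_apply, (hp i j).1, (hp i j).2.1, (hp i j).2.2,
              X.space₀.symm (f i) (e j), (hp j i).2.2, zero_add, add_zero]
            by_cases hij : i = j
            · subst hij; simp; norm_num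
            · simp [hij, Ne.symm hij]
          set p := ∑ i, ((2 : F₀)⁻¹ * B₀ (u i) t) • u i with hpdef
          have hpA : p ∈ A := A.sum_mem fun i _ =>
            A.smul_mem _ (Submodule.subset_span ⟨i, rfl⟩)
          have htE : t - p ∈ E := ⟨trivial, fun z hz => by
            have hle : A ≤ LinearMap.ker (B₀.flip (t - p)) := Submodule.span_le.mpr (by
              rintro _ ⟨k, rfl⟩
              refine LinearMap.mem_ker.mpr ?_
              show B₀ (u k) (t - p) = 0
              rw [map_sub, hpdef, map_sum, Finset.sum_eq_single k]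
              · rw [map_smul, hu, if_pos rfl, smul_eq_mul, mul_comm _ (B₀ (u k) t), mul_assoc,
                  inv_mul_cancel₀ h20, mul_one, sub_self]
              · intro i _ hi
                rw [map_smul, hu, if_neg (Ne.symm hi), smul_zero]
              · simp)
            exact LinearMap.mem_ker.mp (hle hz)⟩
          rw [show t = (t - p) + p by abel, map_add, hK x hx _ htE, zero_add, X.space₀.symm]
          exact (hKE hx).2 p hpA)
      rw [hK0, finrank_bot]) one_ne_zero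
    exact ⟨v, hQv, fun i => hv.2 _ (Submodule.subset_span ⟨i, rfl⟩)⟩
  set b : Fin 4 → (ι → F) := Fin.snoc a (rv F₀ c₃) with hb
  have hb3 : ∀ i : Fin 3, b i.castSucc = a i := fun i => by rw [hb, Fin.snoc_castSucc]
  have hQb : ∀ i, Q (b i) = 1 := by
    intro i
    induction i using Fin.lastCases with
    | last => rw [hb, Fin.snoc_last, X.compat, hc₃.1]; rfl
    | cast i => rw [hb3, hQa]
  have hBb : ∀ i k, i ≠ k → B (b i) (b k) = 0 := by
    have h3 : ∀ i, B (a i) (rv F₀ c₃) = 0 := fun i => X.b_rv (hc₃.2 i)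
    intro i k hik
    induction i using Fin.lastCases with
    | last =>
      induction k using Fin.lastCases with
      | last => exact absurd rfl hik
      | cast k => rw [hb3, hb, Fin.snoc_last, C.symm, h3]
    | cast i =>
      induction k using Fin.lastCases with
      | last => rw [hb3, hb, Fin.snoc_last, h3]
      | cast k => rw [hb3, hb3, hBa i k fun h => hik (by rw [h])]
  have hbr : ∀ i, Ratv F₀ (b i) := by
    intro i
    induction i using Fin.lastCases with
    | last => rw [hb, Fin.snoc_last]; exact ratv_rv _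
    | cast i => rw [hb3]; exact ratv_rv _
  have hb0 : b 0 = a 0 := hb3 0
  have hb1 : b 1 = a 1 := hb3 1
  have hjact' : ∀ x, j.val *ᵥ x = x - B (b 0) x • b 0 - B (b 1) x • b 1 := by
    rw [hb0, hb1]; exact hjact
  have hB' : ∀ i z, B (b i) (rv F₀ z) ∈ F₀ := fun i z => by
    obtain ⟨u, hu⟩ := hbr i
    rw [hu, X.B_rv]
    exact SetLike.coe_mem _
  set k := j * (rGL Q (b 2) * rGL Q (b 3)) with hk
  have hkact : ∀ x, k.val *ᵥ x = x - B (b 0) x • b 0 - B (b 1) x • b 1 - B (b 2) x • b 2 -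
      B (b 3) x • b 3 := fun x => by
    rw [hk, mul_act, rGL_pair_act C (hQb 2) (hQb 3) (hBb 2 3 (by decide)), hjact']
    simp only [map_sub, map_smul, smul_eq_mul, hBb 0 2 (by decide), hBb 0 3 (by decide),
      hBb 1 2 (by decide), hBb 1 3 (by decide), mul_zero, sub_zero]
    abel
  have hkk : k * k = 1 := gl_ext fun x => by
    rw [mul_act, hkact x, hkact, Units.val_one, Matrix.one_mulVec]
    simp only [map_sub, map_smul, C.self, hQb, smul_eq_mul, hBb 0 1 (by decide),
      hBb 0 2 (by decide), hBb 0 3 (by decide), hBb 1 0 (by decide), hBb 1 2 (by decide),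
      hBb 1 3 (by decide), hBb 2 0 (by decide), hBb 2 1 (by decide), hBb 2 3 (by decide),
      hBb 3 0 (by decide), hBb 3 1 (by decide), hBb 3 2 (by decide), mul_one, mul_zero]
    module
  let Ψ : (ι → F) →ₗ[F] (Fin 4 → F) := LinearMap.pi fun i => B (b i)
  have hΨ : finrank F (LinearMap.ker Ψ) + 4 = Fintype.card ι := by
    have hsurj : Function.Surjective Ψ := fun c => ⟨∑ i, (c i / 2) • b i, funext fun i => by
      show B (b i) (∑ k, (c k / 2) • b k) = c i
      rw [map_sum, Finset.sum_eq_single i (fun k _ hk => by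
        rw [map_smul, hBb i k (Ne.symm hk), smul_zero]) (by simp), map_smul, C.self, hQb,
        smul_eq_mul]
      field_simp⟩
    have h1 := LinearMap.finrank_range_add_finrank_ker Ψ
    rw [LinearMap.range_eq_top.mpr hsurj, finrank_top, finrank_fintype_fun_eq_card,
      finrank_fintype_fun_eq_card, Fintype.card_fin] at h1
    omega
  have hk23 : rGL Q (b 2) * rGL Q (b 3) ∈ H := by
    refine X.rat _ ?_ ⟨1, one_ne_zero, fun p q => by
      rw [one_mul]
      refine entries_of_ratv (fun z => ?_) p q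
      rw [rGL_pair_act C (hQb 2) (hQb 3) (hBb 2 3 (by decide))]
      exact ((ratv_rv z).sub ((hbr 2).smul (hB' 2 z))).sub ((hbr 3).smul (hB' 3 z))⟩
    rw [omegaGL_comm]
    exact rGL_mul_rGL_mem C X.five (by rw [hQb]; exact one_ne_zero) (by rw [hQb, hQb])
  have hkinv : RatInvol F₀ k 4 := by
    refine ⟨entries_of_ratv fun z => ?_, hkk, fun h1 => ?_, ?_⟩
    · rw [hkact]
      exact ((((ratv_rv z).sub ((hbr 0).smul (hB' 0 z))).sub ((hbr 1).smul (hB' 1 z))).sub
        ((hbr 2).smul (hB' 2 z))).sub ((hbr 3).smul (hB' 3 z))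
    · have h3 := congrArg (fun g : GL ι F => B (g.val *ᵥ b 0) (b 0)) h1
      simp only [Units.val_one, Matrix.one_mulVec] at h3
      rw [hkact] at h3
      simp only [map_sub, map_smul, LinearMap.sub_apply, LinearMap.smul_apply, C.self, hQb,
        hBb 1 0 (by decide), hBb 2 0 (by decide), hBb 3 0 (by decide), smul_eq_mul, mul_one,
        mul_zero, zero_mul, sub_zero] at h3
      exact h2 ((mul_eq_zero.mp (by linear_combination -h3 : (2 : F) * 2 = 0)).elim id id)
    · refine le_trans hΨ.ge (Nat.add_le_add_right (Submodule.finrank_mono fun x hx => ?_) 4)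
      have h0 : ∀ i, B (b i) x = 0 := fun i => congrFun (LinearMap.mem_ker.mp hx) i
      rw [mem_fixedSp, hkact, h0, h0, h0, h0]
      simp
  refine ratG_of_involutions'' (dj := 2) (dk := 4) (Or.inr h7)
    (pair 0 1 (by decide)).1 (mul_mem (pair 0 1 (by decide)).1 hk23) hjinv hkinv
    (fun c _ heq => ?_)
    (fun g hg x hx y hy hx' hy' hxy => X.ratG_of_intertwine hA h2 hg (X.le_iso hx)
      (X.le_iso hy) hx' hy' hxy (by norm_num)) hh
  have hle : (fixedSp j).map (Matrix.mulVecLin c.val) ≤ LinearMap.ker Ψ := by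
    rintro _ ⟨v, hv, rfl⟩
    have hfix : k.val *ᵥ (c.val *ᵥ v) = c.val *ᵥ v := by
      show (j * (rGL Q (b 2) * rGL Q (b 3))).val *ᵥ _ = _
      rw [heq, mul_act, inv_act, mul_act, (mem_fixedSp j v).mp hv]
    refine LinearMap.mem_ker.mpr (funext fun i => ?_)
    show B (b i) (c.val *ᵥ v) = 0
    have h3 := congrArg (B (b i)) hfix
    rw [hkact] at h3
    fin_cases i <;>
    · simp [C.self, hQb, hBb] at h3 ⊢
      exact h3.resolve_right h2
  have h1 := Submodule.finrank_mono hle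
  rw [(Submodule.equivMapOfInjective _ (act_injective c) (fixedSp j)).finrank_eq.symm] at h1
  have h3 := hjinv.2.2.2
  omega

omit X

/-- The rational part of `Ω` is maximal. -/
theorem subfield_one_max7 (C : Space Q B) (hn : 7 ≤ Fintype.card ι)
    (ho : Odd (Fintype.card ι))
    (h2 : (2 : F) ≠ 0)
    (hrat : ∀ u : ι → F, (∀ i, u i ∈ F₀) → Q u ∈ F₀) {r : ℕ} (hr : r.Prime)
    (hcard : Nat.card F = Nat.card F₀ ^ r) :
    Cfsg.Geo.IsMaximalIn (Cfsg.Geo.omegaGL Q)
      (Cfsg.Geo.subfieldSubgroup F₀ 1 ⊓ Cfsg.Geo.omegaGL Q) := by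
  classical
  let Q₀ : (ι → F₀) → F₀ := fun x => ⟨Q (rv F₀ x), hrat _ fun i => (x i).2⟩
  have hpol : ∀ x y, B (rv F₀ x) (rv F₀ y) = ((QuadraticMap.polar Q₀ x y : F₀) : F) := fun x y => by
    rw [← C.polar]
    simp only [QuadraticMap.polar, Q₀, AddSubgroupClass.coe_sub, rv_add]
  let B₀ : LinearMap.BilinForm F₀ (ι → F₀) := LinearMap.mk₂ F₀ (fun x y => QuadraticMap.polar Q₀ x y)
    (fun a b c => Subtype.ext (by push_cast; rw [← hpol, ← hpol, ← hpol, rv_add]; simp))
    (fun k a b => Subtype.ext (by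
      rw [← hpol, rv_smul, map_smul, LinearMap.smul_apply, hpol]; rfl))
    (fun a b c => Subtype.ext (by push_cast; rw [← hpol, ← hpol, ← hpol, rv_add]; simp))
    (fun k a b => Subtype.ext (by rw [← hpol, rv_smul, map_smul, hpol]; rfl))
  have C₀ : Space Q₀ B₀ := by
    refine ⟨fun c x => Subtype.ext ?_, fun _ _ => rfl, fun v hv => ?_⟩
    · push_cast
      show Q (rv F₀ (c • x)) = _
      rw [rv_smul, C.smul]
    · have h := C.nondeg (rv F₀ v) fun u => by
        have := eq_zero_of_rv (F₀ := F₀) (B.flip (rv F₀ v)) (fun x => by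
          show B (rv F₀ x) (rv F₀ v) = 0
          rw [hpol]
          show ((B₀ x v : F₀) : F) = 0
          rw [hv x]
          rfl) u
        exact this
      exact rv_injective F₀ (h.trans rv_zero'.symm)
  have mk : ∀ H : Subgroup (GL ι F), H ≤ Cfsg.Geo.omegaGL Q →
      Cfsg.Geo.subfieldSubgroup F₀ 1 ⊓ Cfsg.Geo.omegaGL Q ≤ H → Ctx7 Q B Q₀ B₀ H :=
    fun H h1 h2 => ⟨C, C₀, fun _ => rfl, hn, h1, fun g hg hgR =>
      h2 ⟨(mem_subfieldSubgroup_one F₀ g).mpr hgR, hg⟩⟩
  refine ⟨lt_of_le_of_ne inf_le_right fun heq => ?_, fun M hLM hMK => ?_⟩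
  · have X := mk _ le_rfl inf_le_right
    obtain ⟨s, hs⟩ : ∃ s : F, s ∉ F₀ := by
      by_contra hc
      push Not at hc
      have : Nat.card F₀ = Nat.card F := Nat.card_congr (Equiv.subtypeUnivEquiv hc)
      rw [this] at hcard
      exact hr.ne_one (Nat.pow_right_injective (Finite.one_lt_card (α := F)) (a₁ := 1) (a₂ := r)
        (by simpa using hcard)).symm
    obtain ⟨e, f, hz, hp⟩ := X.exists_three
    have h1 : Q (rv F₀ (e 0)) = 0 := X.q_rv (hz 0).1
    have h01 : B (rv F₀ (e 0)) (s • rv F₀ (e 1)) = 0 := by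
      rw [map_smul, X.b_rv (hp 0 1).1, smul_zero]
    have hmem : sGL Q B (rv F₀ (e 0)) (s • rv F₀ (e 1)) ∈ Cfsg.Geo.subfieldSubgroup F₀ 1 ⊓
        Cfsg.Geo.omegaGL Q := by
      rw [heq, omegaGL_eq C (by omega)]
      exact sGL_mem_root trivial trivial h1 h01
    obtain ⟨c, hc, hrat'⟩ := (mem_subfieldSubgroup_one F₀ _).mp hmem.1
    have himg : ∀ z : ι → F₀, Ratv F₀
        (c • (sGL Q B (rv F₀ (e 0)) (s • rv F₀ (e 1))).val *ᵥ rv F₀ z) := fun z => by
      refine ⟨Matrix.of (fun i j => (⟨_, hrat' i j⟩ : F₀)) *ᵥ z, funext fun i => ?_⟩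
      simp [rv, Matrix.mulVec, dotProduct, Finset.mul_sum, mul_assoc]
    have hne : ∀ i, e i ≠ 0 ∧ f i ≠ 0 := fun i =>
      ⟨fun h => by simpa [h] using (hp i i).2.2, fun h => by simpa [h] using (hp i i).2.2⟩
    have hcm : c ∈ F₀ := by
      have h := himg (f 2)
      rw [sGL_act C h1 h01, C.smul, X.q_rv (hz 1).1, map_smul, LinearMap.smul_apply, X.B_rv,
        X.B_rv, (hp 0 2).2.2, (hp 1 2).2.2, if_neg (by decide), if_neg (by decide)] at h
      simp only [ZeroMemClass.coe_zero, smul_eq_mul, mul_zero, zero_smul, add_zero, sub_zero] at h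
      refine coeff_mem (x := f 2) (y := 0) (b := 0) ?_ (by simpa [rv_zero'] using h)
      simpa using (hne 2).2
    have h := himg (f 0)
    rw [sGL_act C h1 h01, C.smul, X.q_rv (hz 1).1, map_smul, LinearMap.smul_apply, X.B_rv, X.B_rv,
      (hp 0 0).2.2, (hp 1 0).2.2, if_pos rfl, if_neg (by decide)] at h
    simp only [ZeroMemClass.coe_zero, OneMemClass.coe_one, smul_eq_mul, mul_zero, zero_mul,
      zero_smul, one_smul, add_zero, sub_zero, smul_add, smul_smul] at h
    have hind : e 1 ∉ Submodule.span F₀ {f 0} := fun hm => by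
      obtain ⟨t, ht⟩ := Submodule.mem_span_singleton.mp hm
      have h3 := congrArg (B₀ (e 0)) ht
      rw [map_smul, (hp 0 0).2.2, (hp 0 1).1, if_pos rfl, smul_eq_mul, mul_one] at h3
      exact (hne 1).1 (by rw [← ht, h3, zero_smul])
    rw [add_comm] at h
    have h4 := F₀.mul_mem (F₀.inv_mem hcm) (coeff_mem hind h)
    rw [← mul_assoc, inv_mul_cancel₀ hc, one_mul] at h4
    rw [one_mul] at h4
    exact hs h4
  · rcases (mk M hMK hLM).ratG_or_top h2 ho hr hcard with h | h
    · exact Or.inl (le_antisymm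
        (fun g hg => ⟨(mem_subfieldSubgroup_one F₀ g).mpr (h g hg), hMK hg⟩) hLM)
    · exact Or.inr (le_antisymm hMK h)

/-- The subfield groups of `Ω` are maximal, in odd dimension at least seven. -/
theorem subfield_max_odd (hQ : Cfsg.Geo.IsNondegenerateQuadraticForm Q) (hn : 7 ≤ Fintype.card ι)
    (ho : Odd (Fintype.card ι))
    (h2 : (2 : F) ≠ 0)
    {r : ℕ} (hr : r.Prime) (hcard : Nat.card F = Nat.card F₀ ^ r) (P : GL ι F) {ζ : F}
    (hζ : ζ ≠ 0) (hP : Cfsg.Geo.IsQuadFormRationalStructure (fun v => ζ * Q v) F₀ P) :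
    Cfsg.Geo.IsMaximalIn (Cfsg.Geo.omegaGL Q)
      (Cfsg.Geo.subfieldSubgroup F₀ P ⊓ Cfsg.Geo.omegaGL Q) := by
  obtain ⟨B, C⟩ := exists_space hQ
  let T := Matrix.mulVecLin P.val
  have C' : Space (fun v => ζ * Q (P.val *ᵥ v)) (ζ • B.compl₁₂ T T) := by
    refine ⟨fun c v => ?_, fun u v => ?_, fun v hv => ?_⟩
    · show ζ * Q _ = _
      rw [Matrix.mulVec_smul, C.smul]; ring
    · simp only [QuadraticMap.polar, Matrix.mulVec_add, C.add]
      simp [T]
      ring
    · refine act_injective P ?_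
      show P.val *ᵥ v = P.val *ᵥ 0
      rw [Matrix.mulVec_zero]
      refine C.nondeg _ fun u => ?_
      have := hv ((P⁻¹ : GL ι F).val *ᵥ u)
      simpa [T, hζ, act_inv] using this
  have h1 := subfield_one_max7 (F₀ := F₀) C' hn ho h2 hP hr hcard
  set φ := MulAut.conj P with hφ
  have hinj : Function.Injective φ.toMonoidHom := φ.injective
  have hmap : (Cfsg.Geo.subfieldSubgroup F₀ 1 ⊓
      Cfsg.Geo.omegaGL fun v => ζ * Q (P.val *ᵥ v)).map φ.toMonoidHom =
      Cfsg.Geo.subfieldSubgroup F₀ P ⊓ Cfsg.Geo.omegaGL Q := by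
    rw [Subgroup.map_inf _ _ _ hinj, omega_transfer P hζ]
    congr 1
    rw [Cfsg.Geo.subfieldSubgroup, Cfsg.Geo.subfieldSubgroup, Subgroup.map_map]
    congr 1
    ext g
    simp [hφ]
  refine ⟨?_, fun M hLM hMK => ?_⟩
  · rw [← hmap, ← omega_transfer (Q := Q) P hζ]
    exact (Subgroup.map_lt_map_iff_of_injective hinj).mpr h1.1
  · have hM : (M.comap φ.toMonoidHom).map φ.toMonoidHom = M :=
      Subgroup.map_comap_eq_self_of_surjective φ.surjective M
    rcases h1.2 (M.comap φ.toMonoidHom)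
        (Subgroup.map_le_iff_le_comap.mp (hmap ▸ hLM))
        ((Subgroup.map_le_map_iff_of_injective hinj).mp
          (by rw [hM, omega_transfer P hζ]; exact hMK)) with h | h
    · left; rw [← hM, h, hmap]
    · right; rw [← hM, h, omega_transfer P hζ]

/-- The subfield groups of `Ω` are maximal, in dimension seven. -/
theorem subfield_max_seven (hQ : Cfsg.Geo.IsNondegenerateQuadraticForm Q) (hn : Fintype.card ι = 7)
    (h2 : (2 : F) ≠ 0)
    {r : ℕ} (hr : r.Prime) (hcard : Nat.card F = Nat.card F₀ ^ r) (P : GL ι F) {ζ : F}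
    (hζ : ζ ≠ 0) (hP : Cfsg.Geo.IsQuadFormRationalStructure (fun v => ζ * Q v) F₀ P) :
    Cfsg.Geo.IsMaximalIn (Cfsg.Geo.omegaGL Q)
      (Cfsg.Geo.subfieldSubgroup F₀ P ⊓ Cfsg.Geo.omegaGL Q) :=
  subfield_max_odd hQ (by omega) ⟨3, by omega⟩ h2 hr hcard P hζ hP

end Cfsg.Lib.Linear.OrthSub7
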